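import Groth.Agent.H4DR.TorAmp.Derived
import Groth.Agent.H4DR.TorAmp.Pair
import Mathlib.Algebra.Polynomial.Inductions
import Mathlib.Algebra.Homology.DerivedCategory.ShortExact
import Mathlib.CategoryTheory.Triangulated.Pretriangulated

/-!
# Base change along `R[x] → R`, `x ↦ 0`, of complexes killed by `x`
-/

set_option autoImplicit false
set_option linter.style.haveILetI false
set_option backward.isDefEq.respectTransparency false

universe u

open CategoryTheory CategoryTheory.Limits Groth.Agent.H16Derived
open scoped TensorProduct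

attribute [local instance] HasDerivedCategory.standard

namespace Groth.Agent.H4DR.PolyEval

variable {R S : Type u} [CommRing R] [CommRing S] (φ : R →+* S) (ψ : S →+* R) (x : S)

/-- `ψ : S → R` is the quotient by the split regular element `x`. -/
structure SplitElement where
  /-- division by `x` -/
  d : S → S
  d_add : ∀ a b, d (a + b) = d a + d b
  d_mul : ∀ r s, d (φ r * s) = φ r * d s
  d_x : ∀ s, d (x * s) = s
  comp_eq : ψ.comp φ = RingHom.id R
  map_x : ψ x = 0
  decomp : ∀ s, x * d s + φ (ψ s) = s

/-- `M ↦ M ⊗ S`. -/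
noncomputable abbrev EC : ModuleCat.{u} R ⥤ ModuleCat.{u} S := ModuleCat.extendScalars.{u, u, u} φ

/-- `M ↦ M` with `x = 0`. -/
noncomputable abbrev RE : ModuleCat.{u} R ⥤ ModuleCat.{u} S := ModuleCat.restrictScalars.{u} ψ

/-- Multiplication by `x`. -/
noncomputable def mulX : EC φ ⟶ EC φ where
  app M := ModuleCat.ofHom (x • LinearMap.id)
  naturality M N f := ModuleCat.hom_ext (LinearMap.ext fun z => (((EC φ).map f).hom.map_smul x z).symm)

variable {φ ψ x} (h : SplitElement φ ψ x)

/-- The identity, as a map from a module to its restriction. -/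
noncomputable def idRes (M : ModuleCat.{u} R) :
    M ⟶ (ModuleCat.restrictScalars.{u} φ).obj ((RE ψ).obj M) :=
  ModuleCat.ofHom (Y := ((ModuleCat.restrictScalars.{u} φ).obj ((RE ψ).obj M) : ModuleCat.{u} R))
    { toFun := fun m => (show (RE ψ).obj M from m)
      map_add' := fun _ _ => rfl
      map_smul' := fun r m => by
        show r • m = ψ (φ r) • m
        rw [show ψ (φ r) = r from RingHom.congr_fun h.comp_eq r] }

/-- The augmentation. -/
noncomputable def evApp (M : ModuleCat.{u} R) : (EC φ).obj M ⟶ (RE ψ).obj M :=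
  ((ModuleCat.extendRestrictScalarsAdj φ).homEquiv _ _).symm (idRes h M)

theorem evApp_tmul (M : ModuleCat.{u} R) (p : S) (m : M) :
    letI := φ.toAlgebra
    (evApp h M).hom (show (EC φ).obj M from p ⊗ₜ[R] m) = (show (RE ψ).obj M from ψ p • m) := by
  letI := φ.toAlgebra
  rfl

/-- The augmentation. -/
noncomputable def ev : EC φ ⟶ RE ψ where
  app := evApp h
  naturality M N f := by
    letI := φ.toAlgebra
    apply ModuleCat.hom_ext
    refine LinearMap.ext fun z => ?_
    induction z using TensorProduct.induction_on with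
    | zero => exact (map_zero _).trans (map_zero _).symm
    | tmul p m => exact (f.hom.map_smul (ψ p) m).symm
    | add a b ha hb => exact (map_add _ _ _).trans ((congrArg₂ (· + ·) ha hb).trans (map_add _ _ _).symm)

theorem mulX_ev_zero (M : ModuleCat.{u} R) : (mulX φ x).app M ≫ (ev h).app M = 0 := by
  apply ModuleCat.hom_ext
  refine LinearMap.ext fun z => ?_
  show (evApp h M).hom (x • z) = 0
  rw [map_smul]
  exact (ModuleCat.restrictScalars.smul_def _ _ _).trans (by rw [h.map_x, zero_smul])

theorem shortExact_app (M : ModuleCat.{u} R) :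
    (ShortComplex.mk _ _ (mulX_ev_zero h M)).ShortExact := by
  letI := φ.toAlgebra
  let mx : S →ₗ[R] S := (LinearMap.mulLeft S x).restrictScalars R
  let dx : S →ₗ[R] S :=
    { toFun := h.d
      map_add' := h.d_add
      map_smul' := fun r p => h.d_mul r p }
  let c0 : S →ₗ[R] R :=
    { toFun := ψ
      map_add' := map_add ψ
      map_smul' := fun r p => by
        show ψ (φ r * p) = r * ψ p
        rw [map_mul, show ψ (φ r) = r from RingHom.congr_fun h.comp_eq r] }
  have hm : ∀ z : TensorProduct R S M, ((mulX φ x).app M).hom (show (EC φ).obj M from z) = mx.rTensor M z := fun z => by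
    induction z using TensorProduct.induction_on with
    | zero => exact (map_zero _).trans (map_zero _).symm
    | tmul p m => rfl
    | add a b ha hb => exact (map_add _ _ _).trans ((congrArg₂ (· + ·) ha hb).trans (map_add _ _ _).symm)
  have he : ∀ z : TensorProduct R S M,
      ((evApp h M).hom (show (EC φ).obj M from z) : M) = TensorProduct.lid R M (c0.rTensor M z) := fun z => by
    induction z using TensorProduct.induction_on with
    | zero => exact (map_zero _).trans ((congrArg _ (map_zero _)).trans (map_zero _)).symm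
    | tmul p m => exact (TensorProduct.lid_tmul m (ψ p)).symm
    | add a b ha hb =>
      exact (map_add _ _ _).trans ((congrArg₂ (· + ·) ha hb).trans
        ((congrArg _ (map_add _ _ _)).trans (map_add _ _ _)).symm)
  have h1 : dx.comp mx = LinearMap.id := LinearMap.ext h.d_x
  have h2 : mx.comp dx + (Algebra.linearMap R S).comp c0 = LinearMap.id := LinearMap.ext h.decomp
  refine { exact := (ShortComplex.moduleCat_exact_iff _).2 fun z hz => ?_, mono_f := ?_, epi_g := ?_ }
  · refine ⟨dx.rTensor M z, (hm _).trans ?_⟩
    have h0 : c0.rTensor M z = 0 := (TensorProduct.lid R M).injective ((he z).symm.trans (hz.trans (map_zero _).symm))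
    have h3 := congrArg (fun φ : S →ₗ[R] S => φ.rTensor M z) h2
    simp only [LinearMap.rTensor_add, LinearMap.rTensor_comp, LinearMap.rTensor_id, LinearMap.add_apply,
      LinearMap.comp_apply, LinearMap.id_apply, h0, map_zero, add_zero] at h3
    exact h3
  · refine (ModuleCat.mono_iff_injective _).2 fun a b hab => ?_
    have h3 := congrArg (dx.rTensor M) ((hm a).symm.trans (hab.trans (hm b)))
    rwa [← LinearMap.comp_apply, ← LinearMap.comp_apply, ← LinearMap.rTensor_comp, h1, LinearMap.rTensor_id,
      LinearMap.id_apply, LinearMap.id_apply] at h3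
  · refine (ModuleCat.epi_iff_surjective _).2 fun m => ⟨(show (EC φ).obj M from (1 : S) ⊗ₜ[R] (m : M)), ?_⟩
    show ψ 1 • (m : M) = m
    rw [map_one, one_smul]

variable (P : DRing.Cx R)

/-- The resolution of `P` with `x = 0`. -/
noncomputable def seq : ShortComplex (CochainComplex (ModuleCat.{u} S) ℤ) :=
  ShortComplex.mk ((NatTrans.mapHomologicalComplex (mulX φ x) (ComplexShape.up ℤ)).app P)
    ((NatTrans.mapHomologicalComplex (ev h) (ComplexShape.up ℤ)).app P)
    (by ext1 i; exact mulX_ev_zero h (P.X i))

theorem shortExact_seq : (seq h P).ShortExact :=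
  HomologicalComplex.shortExact_of_degreewise_shortExact _ fun i => shortExact_app h (P.X i)

include h in
theorem ext_f_zero :
    ((ModuleCat.extendScalars.{u, u, u} ψ).mapHomologicalComplex (ComplexShape.up ℤ)).map
      (seq h P).f = 0 := by
  ext1 i
  apply ModuleCat.hom_ext
  letI := ψ.toAlgebra
  refine LinearMap.ext fun z => ?_
  induction z using TensorProduct.induction_on with
  | zero => exact map_zero _
  | tmul s q =>
    refine (ModuleCat.ExtendScalars.map_tmul (S := R) ψ ((seq h P).f.f i) (show R from s) q).trans ?_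
    have key : ∀ t : R, x • t = 0 := fun t => by
      show ψ x * t = 0
      rw [h.map_x, zero_mul]
    exact (TensorProduct.smul_tmul (R := S) (M := R) x s q).symm.trans
      ((congrArg (fun t : R => TensorProduct.tmul S t q) (key s)).trans (TensorProduct.zero_tmul _ q))
  | add a b ha hb => exact (map_add _ a b).trans ((congrArg₂ (· + ·) ha hb).trans (add_zero 0))

include h in
theorem nonempty_lbase_restrict [DRing.HasLBaseChange ψ] (K : Dual.D R)
    [HasBinaryBiproduct K ((CategoryTheory.shiftFunctor (Dual.D R) (1 : ℤ)).obj K)] :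
    Nonempty ((DRing.LBaseChange ψ).obj ((DRing.restrictD ψ).obj K) ≅
      K ⊞ (CategoryTheory.shiftFunctor (Dual.D R) (1 : ℤ)).obj K) := by
  let P₀ := DerivedCategory.Q.objPreimage K
  let P := (H25DTen.res R).obj P₀
  haveI := H25DTen.quasiIso_resψ P₀
  let e : DRing.toD P ≅ K :=
    asIso (DerivedCategory.Q.map ((H25DTen.resψ R).app P₀)) ≪≫ DerivedCategory.Q.objObjPreimageIso K
  let G := (ModuleCat.extendScalars.{u, u, u} ψ)
  have hQ : KFlat.IsKFlat (Groth.Agent.H4DR.KFlatMod.bi S) (seq h P).X₁ :=
    H25DTen.isKFlat_extCx φ (H25DTen.isKFlat_res P₀)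
  haveI := CochainComplex.mappingCone.quasiIso_descShortComplex (shortExact_seq h P)
  let e₁ : (DRing.restrictD ψ).obj K ≅ DRing.toD (CochainComplex.mappingCone (seq h P).f) :=
    (DRing.restrictD ψ).mapIso e.symm ≪≫
      (ModuleCat.restrictScalars.{u} ψ).mapDerivedCategoryFactors.app P ≪≫
      (asIso (DerivedCategory.Q.map (CochainComplex.mappingCone.descShortComplex (seq h P)))).symm
  let f' := (G.mapHomologicalComplex (ComplexShape.up ℤ)).map (seq h P).f
  let e₂ : (DRing.LBaseChange ψ).obj ((DRing.restrictD ψ).obj K) ≅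
      DerivedCategory.Q.obj (CochainComplex.mappingCone f') :=
    (DRing.LBaseChange ψ).mapIso e₁ ≪≫
      TorAmp.lbaseObj ψ _ (hQ.mappingCone (seq h P).f hQ) ≪≫
      DerivedCategory.Q.mapIso (CochainComplex.mappingCone.mapHomologicalComplexIso (seq h P).f G)
  have hrot := Pretriangulated.rot_of_distTriang _ (DerivedCategory.mappingCone_triangle_distinguished f')
  obtain ⟨e₃, -⟩ := Pretriangulated.exists_iso_binaryBiproduct_of_distTriang _ hrot (by
    show -((CategoryTheory.shiftFunctor (Dual.D R) (1 : ℤ)).map (DerivedCategory.Q.map f')) = 0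
    rw [show f' = 0 from ext_f_zero h P, Functor.map_zero, Functor.map_zero, neg_zero])
  let e₄ : DerivedCategory.Q.obj ((G.mapHomologicalComplex (ComplexShape.up ℤ)).obj (seq h P).X₁) ≅ K :=
    DerivedCategory.Q.mapIso ((TorAmp.extCompIso φ ψ P).symm ≪≫
      (NatIso.mapHomologicalComplex
        (eqToIso (congrArg ModuleCat.extendScalars.{u, u, u} h.comp_eq) ≪≫ ModuleCat.extendScalarsId R)
          (ComplexShape.up ℤ)).app P ≪≫
      (Functor.mapHomologicalComplexIdIso _ _).app P) ≪≫ e
  exact ⟨e₂ ≪≫ e₃ ≪≫ biprod.mapIso e₄ ((CategoryTheory.shiftFunctor (Dual.D R) (1 : ℤ)).mapIso e₄)⟩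

end Groth.Agent.H4DR.PolyEval
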